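import Mathlib.RingTheory.Smooth.Local
import Mathlib.RingTheory.Smooth.Locus
import Mathlib.RingTheory.Kaehler.Polynomial
import Mathlib.RingTheory.Etale.Kaehler
import Mathlib.RingTheory.LocalRing.ResidueField.Basic
import Mathlib.LinearAlgebra.TensorProduct.Quotient
import Mathlib.RingTheory.Regular.RegularSequence
import Mathlib.RingTheory.FinitePresentation
import Mathlib.RingTheory.Localization.Algebra

/-!
Smoothness is inherited from the quotient by a regular sequence.
-/

set_option autoImplicit false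
set_option maxSynthPendingDepth 3
set_option linter.style.haveILetI false
universe u

noncomputable section

namespace Groth.L05.RegSeqSmooth

open IsLocalRing KaehlerDifferential
open scoped TensorProduct

section Local

variable (R : Type u) {P : Type u} [CommRing R] [CommRing P] [IsLocalRing P] [Algebra R P]

theorem one_tmul_eq_zero {I : Ideal P} (x : I) (hx : x.1 ∈ maximalIdeal P * I) :
    (1 : ResidueField P) ⊗ₜ[P] x = 0 := by
  suffices h : ∃ hv : x.1 ∈ I, (1 : ResidueField P) ⊗ₜ[P] (⟨x.1, hv⟩ : I) = 0 by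
    obtain ⟨_, h⟩ := h
    exact h
  refine Submodule.mul_induction_on hx (fun a ha b hb => ⟨I.mul_mem_left a hb, ?_⟩) (fun a b ha hb => ?_)
  · rw [show (⟨a * b, I.mul_mem_left a hb⟩ : I) = a • (⟨b, hb⟩ : I) from rfl, TensorProduct.tmul_smul,
      ← algebraMap_smul (ResidueField P) a ((1 : ResidueField P) ⊗ₜ[P] (⟨b, hb⟩ : I)), ResidueField.algebraMap_eq,
      (residue_eq_zero_iff a).mpr ha, zero_smul]
  · obtain ⟨h1, h1'⟩ := ha
    obtain ⟨h2, h2'⟩ := hb
    refine ⟨add_mem h1 h2, ?_⟩
    rw [show (⟨a + b, add_mem h1 h2⟩ : I) = ⟨a, h1⟩ + ⟨b, h2⟩ from rfl, TensorProduct.tmul_add, h1', h2', add_zero]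

theorem mem_mul_of_one_tmul_eq_zero {I : Ideal P} (x : I) (hx : (1 : ResidueField P) ⊗ₜ[P] x = 0) :
    x.1 ∈ maximalIdeal P * I := by
  have h := congrArg (TensorProduct.quotTensorEquivQuotSMul I (maximalIdeal P)) hx
  erw [map_zero, TensorProduct.quotTensorEquivQuotSMul_mk_tmul] at h
  rw [one_smul, Submodule.Quotient.mk_eq_zero] at h
  have h2 : x.1 ∈ Submodule.map I.subtype (maximalIdeal P • ⊤) := ⟨x, h, rfl⟩
  rwa [Submodule.map_smul'', Submodule.map_top, Submodule.range_subtype, smul_eq_mul] at h2

theorem lTensor_inclusion_injective (I : Ideal P) (F : P) (hF : F ∈ maximalIdeal P)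
    (hreg : ∀ c, c * F ∈ I → c ∈ I) {I' : Ideal P} (hI' : I' = I ⊔ Ideal.span {F}) (hle : I ≤ I') :
    Function.Injective (LinearMap.lTensor (ResidueField P) (Submodule.inclusion hle)) := by
  rw [injective_iff_map_eq_zero]
  intro z hz
  obtain ⟨x, rfl⟩ := TensorProduct.mk_surjective P I (ResidueField P) residue_surjective z
  rw [TensorProduct.mk_apply, LinearMap.lTensor_tmul] at hz
  have h := mem_mul_of_one_tmul_eq_zero _ hz
  change x.1 ∈ maximalIdeal P * I' at h
  rw [hI', Ideal.mul_sup, Submodule.mem_sup] at h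
  obtain ⟨u, hu, w, hw, huw⟩ := h
  obtain ⟨c, hc, rfl⟩ := Ideal.mem_mul_span_singleton.mp hw
  have hcI : c ∈ I := hreg c (by
    rw [show c * F = x.1 - u by rw [← huw]; ring]
    exact I.sub_mem x.2 (Ideal.mul_le_right hu))
  refine one_tmul_eq_zero x ?_
  rw [← huw]
  exact add_mem hu (by rw [mul_comm c F]; exact Ideal.mul_mem_mul hF hcI)

theorem injective_congr {K I I' : Ideal P} (e : I = I') (h : K ≤ I) (h' : K ≤ I')
    (hinj : Function.Injective (LinearMap.lTensor (ResidueField P) (Submodule.inclusion h))) :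
    Function.Injective (LinearMap.lTensor (ResidueField P) (Submodule.inclusion h')) := by
  subst e
  exact hinj

variable {S T : Type u} [CommRing S] [IsLocalRing S] [CommRing T] [IsLocalRing T] [Algebra R S] [Algebra R T]
  [Algebra P S] [Algebra P T] [Algebra S T] [IsScalarTower R P S] [IsScalarTower R P T] [IsScalarTower P S T]

/-- A quotient of a formally smooth local algebra with formally smooth quotient by a regular sequence is formally
smooth. -/
theorem formallySmooth_of_regular [Algebra.FormallySmooth R P] [Module.Free P Ω[P⁄R]] [Module.Finite P Ω[P⁄R]]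
    [Algebra.FormallySmooth R T]
    (hPS : Function.Surjective (algebraMap P S)) (hST : Function.Surjective (algebraMap S T))
    (hFG : (RingHom.ker (algebraMap P S)).FG) {r : ℕ} (fs : Fin r → S)
    (hgen : RingHom.ker (algebraMap S T) = Ideal.span (Set.range fs))
    (hreg : ∀ (i : Fin r) (c : S), c * fs i ∈ Ideal.span (fs '' Set.Iio i) → c ∈ Ideal.span (fs '' Set.Iio i)) :
    Algebra.FormallySmooth R S := by
  classical
  let κ := ResidueField P
  have hPT : Function.Surjective (algebraMap P T) := by
    rw [IsScalarTower.algebraMap_eq P S T]; exact hST.comp hPS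
  have hkS : RingHom.ker (algebraMap P S) ≤ maximalIdeal P := le_maximalIdeal (RingHom.ker_ne_top _)
  have hkT : RingHom.ker (algebraMap P T) ≤ maximalIdeal P := le_maximalIdeal (RingHom.ker_ne_top _)
  letI : Algebra S κ := ((algebraMap P S).liftOfSurjective hPS ⟨residue P, fun x hx =>
    (residue_eq_zero_iff x).mpr (hkS hx)⟩).toAlgebra
  haveI : IsScalarTower P S κ := IsScalarTower.of_algebraMap_eq fun x =>
    ((algebraMap P S).liftOfRightInverse_comp_apply _ (Function.rightInverse_surjInv hPS) ⟨residue P, _⟩ x).symm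
  letI : Algebra T κ := ((algebraMap P T).liftOfSurjective hPT ⟨residue P, fun x hx =>
    (residue_eq_zero_iff x).mpr (hkT hx)⟩).toAlgebra
  haveI : IsScalarTower P T κ := IsScalarTower.of_algebraMap_eq fun x =>
    ((algebraMap P T).liftOfRightInverse_comp_apply _ (Function.rightInverse_surjInv hPT) ⟨residue P, _⟩ x).symm
  have hS₃ : maximalIdeal S ≤ RingHom.ker (algebraMap S κ) := fun y hy => by
    obtain ⟨x, rfl⟩ := hPS y
    rw [RingHom.mem_ker, ← IsScalarTower.algebraMap_apply, ResidueField.algebraMap_eq, residue_eq_zero_iff]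
    exact (mem_maximalIdeal x).mpr fun hu => (mem_maximalIdeal _).mp hy (hu.map _)
  have hT₃ : maximalIdeal T ≤ RingHom.ker (algebraMap T κ) := fun y hy => by
    obtain ⟨x, rfl⟩ := hPT y
    rw [RingHom.mem_ker, ← IsScalarTower.algebraMap_apply, ResidueField.algebraMap_eq, residue_eq_zero_iff]
    exact (mem_maximalIdeal x).mpr fun hu => (mem_maximalIdeal _).mp hy (hu.map _)
  choose F hF using fun i => hPS (fs i)
  let I : ℕ → Ideal P := fun k => RingHom.ker (algebraMap P S) ⊔ Ideal.span (F '' {i | i.1 < k})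
  have hImap : ∀ (k : ℕ) (x : P), x ∈ I k ↔ algebraMap P S x ∈ Ideal.span (fs '' {i | i.1 < k}) := by
    intro k x
    rw [show Ideal.span (fs '' {i | i.1 < k}) = (Ideal.span (F '' {i | i.1 < k})).map (algebraMap P S) by
      rw [Ideal.map_span, ← Set.image_comp]; congr 1; exact Set.image_congr fun i _ => (hF i).symm,
      ← Ideal.mem_comap, Ideal.comap_map_of_surjective' _ hPS, sup_comm]
  have hker : RingHom.ker (algebraMap P T) = I r := by
    ext x
    rw [hImap, show {i : Fin r | i.1 < r} = Set.univ from Set.eq_univ_of_forall fun i => i.2, Set.image_univ, ← hgen,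
      RingHom.mem_ker, RingHom.mem_ker, ← IsScalarTower.algebraMap_apply]
  have hIm : ∀ k, I k ≤ maximalIdeal P := fun k => by
    refine le_trans ?_ (hker ▸ hkT : I r ≤ maximalIdeal P)
    exact sup_le_sup_left (Ideal.span_mono (Set.image_mono (show {a : Fin r | a.1 < k} ⊆ {a : Fin r | a.1 < r} from fun a _ => a.2))) _
  have h0 : ∀ k, RingHom.ker (algebraMap P S) ≤ I k := fun k => le_sup_left
  have hchain : ∀ k, k ≤ r → Function.Injective (LinearMap.lTensor κ (Submodule.inclusion (h0 k))) := by
    intro k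
    induction k with
    | zero =>
      intro _
      have e : I 0 = RingHom.ker (algebraMap P S) := by simp [I]
      let e' := LinearEquiv.ofEq _ _ e
      refine Function.Injective.of_comp (f := LinearMap.lTensor κ e'.toLinearMap) ?_
      rw [← LinearMap.coe_comp, ← LinearMap.lTensor_comp,
        show e'.toLinearMap ∘ₗ Submodule.inclusion (h0 0) = LinearMap.id from LinearMap.ext fun x => rfl,
        LinearMap.lTensor_id]
      exact Function.injective_id
    | succ k ih =>
      intro hk
      let i : Fin r := ⟨k, hk⟩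
      have hle : I k ≤ I (k + 1) :=
        sup_le_sup_left (Ideal.span_mono (Set.image_mono (show {a : Fin r | a.1 < k} ⊆ {a : Fin r | a.1 < k + 1} from fun a ha => Nat.lt_succ_of_lt (show a.1 < k from ha)))) _
      have hsucc : I (k + 1) = I k ⊔ Ideal.span {F i} := by
        show _ ⊔ Ideal.span _ = _
        rw [show {a : Fin r | a.1 < k + 1} = insert i {a : Fin r | a.1 < k} by
          ext a; simp only [Set.mem_insert_iff, Set.mem_ofPred_eq, i, Fin.ext_iff]; omega,
          Set.image_insert_eq, Ideal.span_insert]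
        simp only [I]; ac_rfl
      have hiio : Set.Iio i = {a : Fin r | a.1 < k} := rfl
      have h1 := lTensor_inclusion_injective (I k) (F i) (hIm (k + 1) (hsucc ▸ Ideal.mem_sup_right (Ideal.mem_span_singleton_self _)))
        (fun c hc => (hImap k c).mpr (hiio ▸ hreg i _ (hiio.symm ▸ (by
          have := (hImap k _).mp hc
          rwa [map_mul, hF] at this)))) hsucc hle
      have h2 := h1.comp (ih (Nat.le_of_succ_le hk))
      rwa [← LinearMap.coe_comp, ← LinearMap.lTensor_comp] at h2
  have hIFG : (RingHom.ker (algebraMap P T)).FG := by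
    rw [hker]
    exact Submodule.FG.sup hFG (Submodule.fg_span (Set.toFinite _))
  have hTinj := (Algebra.FormallySmooth.iff_injective_cotangentComplexBaseChange (R := R) (S := T) P κ hPT hIFG hT₃).mp
    inferInstance
  rw [Algebra.FormallySmooth.iff_injective_cotangentComplexBaseChange (R := R) (S := S) P κ hPS hFG hS₃]
  have hle : RingHom.ker (algebraMap P S) ≤ RingHom.ker (algebraMap P T) := hker ▸ h0 r
  have e : cotangentComplexBaseChange R S P κ =
      cotangentComplexBaseChange R T P κ ∘ₗ (Submodule.inclusion hle).baseChange κ := by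
    ext x
    simp [cotangentComplexBaseChange_tmul]
  rw [e, LinearMap.coe_comp]
  refine hTinj.comp ?_
  have h3 := hchain r le_rfl
  exact injective_congr hker.symm (h0 r) hle h3

end Local

section Prime

/-- The colon condition of a regular sequence passes to localizations. -/
theorem colon_localization {B B' : Type u} [CommRing B] [CommRing B'] [Algebra B B'] (M : Submonoid B)
    [IsLocalization M B'] {r : ℕ} (fs : Fin r → B)
    (h : ∀ (i : Fin r) (c : B), c * fs i ∈ Ideal.span (fs '' Set.Iio i) → c ∈ Ideal.span (fs '' Set.Iio i))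
    (i : Fin r) (c : B')
    (hc : c * algebraMap B B' (fs i) ∈ Ideal.span ((fun j => algebraMap B B' (fs j)) '' Set.Iio i)) :
    c ∈ Ideal.span ((fun j => algebraMap B B' (fs j)) '' Set.Iio i) := by
  rw [← Set.image_image (algebraMap B B') fs, ← Ideal.map_span] at hc ⊢
  obtain ⟨a, s, rfl⟩ := IsLocalization.exists_mk'_eq M c
  rw [mul_comm, IsLocalization.mul_mk'_eq_mk'_of_mul, IsLocalization.mk'_mem_map_algebraMap_iff M] at hc
  obtain ⟨t, ht, htc⟩ := hc
  rw [IsLocalization.mk'_mem_map_algebraMap_iff M]
  exact ⟨t, ht, h i _ (by rwa [mul_assoc, mul_comm a])⟩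

/-- The colon condition of a regular sequence. -/
theorem colon_of_isRegular {B : Type u} [CommRing B] (rs : List B) (h : RingTheory.Sequence.IsRegular B rs)
    (i : Fin rs.length) (c : B) (hc : c * rs.get i ∈ Ideal.span (rs.get '' Set.Iio i)) :
    c ∈ Ideal.span (rs.get '' Set.Iio i) := by
  have hspan : Ideal.span (rs.get '' Set.Iio i) = Ideal.ofList (rs.take i.1) := by
    rw [Ideal.ofList]
    congr 1
    ext x
    simp only [Set.mem_image, Set.mem_Iio, Set.mem_ofPred_eq, List.mem_take_iff_getElem]
    constructor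
    · rintro ⟨j, hj, rfl⟩
      exact ⟨j.1, by have : j.1 < i.1 := hj; omega, rfl⟩
    · rintro ⟨j, hj, rfl⟩
      exact ⟨⟨j, by omega⟩, show j < i.1 by omega, rfl⟩
  have hs : (Ideal.ofList (rs.take i.1) • ⊤ : Submodule B B) = Ideal.ofList (rs.take i.1) := by
    rw [smul_eq_mul, Ideal.mul_top]
  rw [hspan] at hc ⊢
  rw [← hs] at hc ⊢
  have hr := h.regular_mod_prev i.1 i.2
  rw [← Submodule.Quotient.mk_eq_zero] at hc ⊢
  refine hr.right_eq_zero_of_smul ?_
  rw [← Submodule.Quotient.mk_smul]
  have e : rs[i.1] • c = c * rs.get i := by rw [smul_eq_mul, mul_comm, List.get_eq_getElem]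
  rw [e]
  exact hc

/-- An algebra of finite presentation is smooth at a prime where a quotient by a regular sequence is smooth. -/
theorem isSmoothAt_of_regular (A B C : Type u) [CommRing A] [CommRing B] [CommRing C] [Algebra A B] [Algebra A C]
    [Algebra B C] [IsScalarTower A B C] [Algebra.FinitePresentation A B] (hs : Function.Surjective (algebraMap B C))
    (q : Ideal B) [q.IsPrime] (Q : Ideal C) [Q.IsPrime] (hQ : q = Q.comap (algebraMap B C)) [Algebra.IsSmoothAt A Q]
    {r : ℕ} (fs : Fin r → B) (hgen : RingHom.ker (algebraMap B C) = Ideal.span (Set.range fs))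
    (hreg : ∀ (i : Fin r) (c : B), c * fs i ∈ Ideal.span (fs '' Set.Iio i) → c ∈ Ideal.span (fs '' Set.Iio i)) :
    Algebra.IsSmoothAt A q := by
  classical
  obtain ⟨n, π, hπ, hπfg⟩ := ‹Algebra.FinitePresentation A B›
  let P₀ := MvPolynomial (Fin n) A
  letI : Algebra P₀ B := π.toRingHom.toAlgebra
  haveI : IsScalarTower A P₀ B := IsScalarTower.of_algebraMap_eq fun a => (π.commutes a).symm
  let p₀ := q.comap (algebraMap P₀ B)
  let P := Localization.AtPrime p₀
  let S := Localization.AtPrime q
  let T := Localization.AtPrime Q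
  letI : Algebra P S := (Localization.localRingHom p₀ q (algebraMap P₀ B) rfl).toAlgebra
  letI : Algebra S T := (Localization.localRingHom q Q (algebraMap B C) hQ).toAlgebra
  letI : Algebra P T := ((algebraMap S T).comp (algebraMap P S)).toAlgebra
  haveI : IsScalarTower P S T := IsScalarTower.of_algebraMap_eq' rfl
  haveI : IsScalarTower P₀ P S := IsScalarTower.of_algebraMap_eq fun x => by
    rw [IsScalarTower.algebraMap_apply P₀ B S]
    exact (Localization.localRingHom_to_map p₀ q (algebraMap P₀ B) rfl x).symm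
  haveI : IsScalarTower A P S := IsScalarTower.to₁₃₄ A P₀ P S
  haveI : IsScalarTower B S T := IsScalarTower.of_algebraMap_eq fun x => by
    rw [IsScalarTower.algebraMap_apply B C T]
    exact (Localization.localRingHom_to_map q Q (algebraMap B C) hQ x).symm
  haveI : IsScalarTower A S T := IsScalarTower.to₁₃₄ A B S T
  haveI : IsScalarTower A P T := IsScalarTower.of_algebraMap_eq fun a => by
    rw [IsScalarTower.algebraMap_apply P S T, ← IsScalarTower.algebraMap_apply A P S,
      ← IsScalarTower.algebraMap_apply A S T]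
  haveI : Algebra.FormallyEtale P₀ P := Algebra.FormallyEtale.of_isLocalization p₀.primeCompl
  haveI : Algebra.FormallySmooth A P := Algebra.FormallySmooth.comp A P₀ P
  haveI : Module.Free P (Ω[P⁄A]) :=
    Module.Free.of_equiv (tensorKaehlerEquivOfFormallyEtale A P₀ P)
  haveI : Module.Finite P (Ω[P⁄A]) :=
    Module.Finite.equiv (tensorKaehlerEquivOfFormallyEtale A P₀ P)
  have hPS : Function.Surjective (algebraMap P S) := by
    intro z
    obtain ⟨b, ⟨s, hs'⟩, rfl⟩ := IsLocalization.exists_mk'_eq q.primeCompl z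
    obtain ⟨b, rfl⟩ := hπ b
    obtain ⟨s, rfl⟩ := hπ s
    exact ⟨IsLocalization.mk' _ b (⟨s, hs'⟩ : p₀.primeCompl), Localization.localRingHom_mk' _ _ _ _ _ _⟩
  have hST : Function.Surjective (algebraMap S T) := by
    intro z
    obtain ⟨b, ⟨s, hs'⟩, rfl⟩ := IsLocalization.exists_mk'_eq Q.primeCompl z
    obtain ⟨b, rfl⟩ := hs b
    obtain ⟨s, rfl⟩ := hs s
    exact ⟨IsLocalization.mk' _ b (⟨s, fun h => hs' (hQ.le h)⟩ : q.primeCompl), Localization.localRingHom_mk' _ _ _ _ _ _⟩
  have hFG : (RingHom.ker (algebraMap P S)).FG := by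
    have hk : RingHom.ker (algebraMap P S) = (RingHom.ker (algebraMap P₀ B)).map (algebraMap P₀ P) := by
      ext z
      obtain ⟨b, s, rfl⟩ := IsLocalization.exists_mk'_eq p₀.primeCompl z
      rw [RingHom.mem_ker, IsLocalization.mk'_mem_map_algebraMap_iff p₀.primeCompl]
      show Localization.localRingHom p₀ q (algebraMap P₀ B) rfl _ = 0 ↔ _
      rw [Localization.localRingHom_mk', IsLocalization.mk'_eq_zero_iff]
      constructor
      · rintro ⟨⟨m, hm⟩, hmb⟩
        obtain ⟨m, rfl⟩ := hπ m
        exact ⟨m, hm, by rw [RingHom.mem_ker, map_mul]; exact hmb⟩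
      · rintro ⟨m, hm, hmb⟩
        exact ⟨⟨algebraMap P₀ B m, hm⟩, by rw [RingHom.mem_ker, map_mul] at hmb; exact hmb⟩
    rw [hk]
    exact Ideal.FG.map hπfg _
  have hgenS : RingHom.ker (algebraMap S T) = Ideal.span (Set.range fun j => algebraMap B S (fs j)) := by
    rw [show (fun j => algebraMap B S (fs j)) = algebraMap B S ∘ fs from rfl, Set.range_comp, ← Ideal.map_span, ← hgen]
    ext z
    obtain ⟨b, s, rfl⟩ := IsLocalization.exists_mk'_eq q.primeCompl z
    rw [RingHom.mem_ker, IsLocalization.mk'_mem_map_algebraMap_iff q.primeCompl]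
    show Localization.localRingHom q Q (algebraMap B C) hQ _ = 0 ↔ _
    rw [Localization.localRingHom_mk', IsLocalization.mk'_eq_zero_iff]
    constructor
    · rintro ⟨⟨m, hm⟩, hmb⟩
      obtain ⟨m, rfl⟩ := hs m
      exact ⟨m, fun h => hm (hQ.le h), by rw [RingHom.mem_ker, map_mul]; exact hmb⟩
    · rintro ⟨m, hm, hmb⟩
      exact ⟨⟨algebraMap B C m, fun h => hm (hQ.ge h)⟩, by rw [RingHom.mem_ker, map_mul] at hmb; exact hmb⟩
  haveI : Algebra.FormallySmooth A T := ‹Algebra.IsSmoothAt A Q›
  exact formallySmooth_of_regular A hPS hST hFG _ hgenS (colon_localization q.primeCompl fs hreg)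

end Prime

end Groth.L05.RegSeqSmooth
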