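import Groth.Agent.L05.RegSeqSmooth.Algebra
import Groth.Agent.L19.SmoothLocus
import Mathlib.AlgebraicGeometry.IdealSheaf.Functorial

/-!
A morphism is smooth near a point of a regularly immersed smooth closed subscheme.
-/

universe u

open CategoryTheory CategoryTheory.Limits AlgebraicGeometry

namespace Groth.L05.RegSeqSmooth

set_option autoImplicit false
set_option linter.style.haveILetI false
set_option maxSynthPendingDepth 3
set_option backward.isDefEq.respectTransparency.types false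
set_option backward.isDefEq.respectTransparency false

theorem smooth_nhd_of_regular {X Y S : Scheme.{u}} (f : X ⟶ S) (h : Y ⟶ S)
    [LocallyOfFinitePresentation f] [LocallyOfFinitePresentation h] (j : Y ⟶ X) [IsClosedImmersion j]
    (hj : j ≫ f = h) (y : ↥Y) (hy : ∃ V : Y.Opens, y ∈ V ∧ Smooth (V.ι ≫ h))
    (hreg : ∃ (U : X.Opens) (hU : IsAffineOpen U), j y ∈ U ∧
      ∃ rs : List Γ(X, U), RingTheory.Sequence.IsRegular Γ(X, U) rs ∧ j.ker.ideal ⟨U, hU⟩ = Ideal.ofList rs) :
    ∃ U : X.Opens, j y ∈ U ∧ Smooth (U.ι ≫ f) := by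
  obtain ⟨U, hU, hyU, rs, hrs, hker⟩ := hreg
  obtain ⟨V, hV, hyV, -⟩ := exists_isAffineOpen_mem_and_subset (X := S) (x := f (j y)) (U := ⊤) trivial
  obtain ⟨g, hgV, hyg⟩ := hU.exists_basicOpen_le (V := f ⁻¹ᵁ V) ⟨j y, hyV⟩ hyU
  let U' := X.basicOpen g
  have hU' : IsAffineOpen U' := hU.basicOpen g
  let W := j ⁻¹ᵁ U'
  have hW : IsAffineOpen W := hU'.preimage j
  have e₂ : W ≤ h ⁻¹ᵁ V := fun z hz => by
    show h z ∈ V
    rw [← hj]
    exact hgV hz
  letI algAB := (f.appLE V U' hgV).hom.toAlgebra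
  letI algAC := (h.appLE V W e₂).hom.toAlgebra
  letI algBC := (j.app U').hom.toAlgebra
  haveI : IsScalarTower Γ(S, V) Γ(X, U') Γ(Y, W) := IsScalarTower.of_algebraMap_eq' (by
    show (h.appLE V W e₂).hom = (j.app U').hom.comp (f.appLE V U' hgV).hom
    subst hj
    rw [← CommRingCat.hom_comp, Scheme.Hom.app_eq_appLE, Scheme.Hom.appLE_comp_appLE])
  haveI : Algebra.FinitePresentation Γ(S, V) Γ(X, U') :=
    RingHom.finitePresentation_algebraMap.mp (f.finitePresentation_appLE hV hU' hgV)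
  let Q := (hW.primeIdealOf ⟨y, hyg⟩).asIdeal
  let q := (hU'.primeIdealOf ⟨j y, hyg⟩).asIdeal
  have hQ : q = Q.comap (algebraMap Γ(X, U') Γ(Y, W)) := by
    show q = Q.comap (j.app U').hom
    rw [Scheme.Hom.app_eq_appLE]
    exact congr($(IsAffineOpen.comap_primeIdealOf_appLE U' hU' W hW le_rfl hyg).1).symm
  haveI : Algebra.IsSmoothAt Γ(S, V) Q :=
    (formallySmooth_stalkMap_iff V hV W hW e₂ hyg).mp ((Groth.L19.SmoothLocus.mem_iff_nhd h y).mpr hy)
  letI : Algebra Γ(X, U) Γ(X, U') := (X.presheaf.map (homOfLE (X.basicOpen_le g)).op).hom.toAlgebra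
  haveI : IsLocalization (Submonoid.powers g) Γ(X, U') := hU.isLocalization_basicOpen g
  let fs : Fin rs.length → Γ(X, U') := fun i => algebraMap Γ(X, U) Γ(X, U') (rs.get i)
  have hgen : RingHom.ker (algebraMap Γ(X, U') Γ(Y, W)) = Ideal.span (Set.range fs) := by
    show RingHom.ker (j.app U').hom = _
    rw [← Scheme.Hom.ker_apply j ⟨U', hU'⟩]
    refine (j.ker.map_ideal_basicOpen ⟨U, hU⟩ g).symm.trans ?_
    rw [hker, Ideal.ofList, Ideal.map_span, ← Set.range_list_get, ← Set.range_comp]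
    rfl
  have := isSmoothAt_of_regular Γ(S, V) Γ(X, U') Γ(Y, W) (j.app_surjective U' hU') q Q hQ fs hgen
    (colon_localization (Submonoid.powers g) rs.get (colon_of_isRegular rs hrs))
  exact (Groth.L19.SmoothLocus.mem_iff_nhd f (j y)).mp
    ((formallySmooth_stalkMap_iff V hV U' hU' hgV hyg).mpr this)

end Groth.L05.RegSeqSmooth
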